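/-! Certificates: the class of an element of order four squares onto the normal forms in SL(3,3). -/

namespace Cfsg.Agent.Lib.SL3Cover

def certs : Array (Nat × Nat) := #[
  (0, 0),
  (0, 0),
  (0, 0),
  (0, 0),
  (0, 0),
  (0, 0),
  (0, 0),
  (0, 0),
  (0, 0),
  (0, 0),
  (0, 0),
  (0, 0),
  (0, 0),
  (0, 0),
  (0, 0),
  (0, 0),
  (0, 0),
  (0, 0),
  (0, 0),
  (0, 0),
  (0, 0),
  (0, 0),
  (0, 0),
  (0, 0),
  (0, 0),
  (0, 0),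
  (0, 0),
  (0, 0),
  (0, 0),
  (0, 0),
  (1548, 16803),
  (10296, 3303),
  (14670, 5817),
  (0, 0),
  (0, 0),
  (0, 0),
  (0, 0),
  (0, 0),
  (0, 0),
  (1791, 16803),
  (3735, 15210),
  (3978, 17046),
  (0, 0),
  (0, 0),
  (0, 0),
  (0, 0),
  (0, 0),
  (0, 0),
  (3735, 17478),
  (12483, 18564),
  (900, 16269),
  (0, 0),
  (0, 0),
  (0, 0),
  (0, 0),
  (0, 0),
  (0, 0),
  (0, 0),
  (0, 0),
  (0, 0),
  (14670, 2391),
  (12483, 10674),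
  (16857, 5010),
  (0, 0),
  (0, 0),
  (0, 0),
  (0, 0),
  (0, 0),
  (0, 0),
  (8109, 5628),
  (19044, 4845),
  (1548, 10353),
  (0, 0),
  (0, 0),
  (0, 0),
  (0, 0),
  (0, 0),
  (0, 0),
  (14670, 2226),
  (19044, 4686),
  (3735, 7899),
  (3735, 7410),
  (10296, 7758),
  (2034, 5682),
  (8109, 9513),
  (12483, 11970),
  (3735, 17481),
  (10539, 7974),
  (8109, 9864),
  (1548, 5817),
  (14670, 16539),
  (1548, 5682),
  (8109, 10134),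
  (1548, 5628),
  (14670, 16404),
  (5922, 3903),
  (3735, 8373),
  (10296, 7515),
  (16803, 13920),
  (1791, 5682),
  (5922, 18186),
  (8352, 10134),
  (3735, 15213),
  (10296, 8001),
  (9513, 8085),
  (12483, 9891),
  (16857, 18105),
  (14670, 16269),
  (12483, 19074),
  (1548, 17235),
  (14022, 6468),
  (0, 0),
  (0, 0),
  (0, 0),
  (0, 0),
  (0, 0),
  (0, 0),
  (14670, 5628),
  (19044, 9546),
  (10296, 15663),
  (0, 0),
  (0, 0),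
  (0, 0),
  (0, 0),
  (0, 0),
  (0, 0),
  (3978, 15183),
  (3735, 14724),
  (14913, 5628),
  (0, 0),
  (0, 0),
  (0, 0),
  (0, 0),
  (0, 0),
  (0, 0),
  (14670, 2307),
  (19044, 4842),
  (8109, 5817),
  (0, 0),
  (0, 0),
  (0, 0),
  (0, 0),
  (0, 0),
  (0, 0),
  (14670, 2229),
  (19044, 4683),
  (3735, 13557),
  (0, 0),
  (0, 0),
  (0, 0),
  (0, 0),
  (0, 0),
  (0, 0),
  (14670, 2385),
  (1548, 10650),
  (16857, 5007),
  (0, 0),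
  (0, 0),
  (0, 0),
  (0, 0),
  (0, 0),
  (0, 0),
  (0, 0),
  (0, 0),
  (0, 0),
  (0, 0),
  (0, 0),
  (0, 0),
  (0, 0),
  (0, 0),
  (0, 0),
  (0, 0),
  (0, 0),
  (0, 0),
  (0, 0),
  (0, 0),
  (0, 0),
  (0, 0),
  (0, 0),
  (0, 0),
  (0, 0),
  (0, 0),
  (0, 0),
  (0, 0),
  (0, 0),
  (0, 0),
  (0, 0),
  (0, 0),
  (0, 0),
  (0, 0),
  (0, 0),
  (0, 0),
  (0, 0),
  (0, 0),
  (0, 0),
  (17343, 1716),
  (3735, 14967),
  (1791, 17343),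
  (0, 0),
  (0, 0),
  (0, 0),
  (0, 0),
  (0, 0),
  (0, 0),
  (16857, 10641),
  (14670, 5682),
  (12483, 9189),
  (0, 0),
  (0, 0),
  (0, 0),
  (0, 0),
  (0, 0),
  (0, 0),
  (10296, 4254),
  (17343, 8292),
  (1548, 17343),
  (0, 0),
  (0, 0),
  (0, 0),
  (14670, 2223),
  (19044, 4680),
  (3735, 15216),
  (0, 0),
  (0, 0),
  (0, 0),
  (0, 0),
  (0, 0),
  (0, 0),
  (14670, 2388),
  (8109, 5682),
  (16857, 5004),
  (0, 0),
  (0, 0),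
  (0, 0),
  (0, 0),
  (0, 0),
  (0, 0),
  (1548, 10704),
  (19044, 4848),
  (10296, 16182),
  (0, 0),
  (0, 0),
  (0, 0),
  (0, 0),
  (0, 0),
  (0, 0),
  (0, 0),
  (0, 0),
  (5922, 18774),
  (0, 0),
  (8352, 14028),
  (0, 0),
  (0, 0),
  (0, 0),
  (0, 0),
  (0, 0),
  (17343, 5220),
  (0, 0),
  (0, 0),
  (0, 0),
  (14913, 8115),
  (3978, 19479),
  (10539, 14430),
  (14670, 8412),
  (8109, 14325),
  (0, 0),
  (0, 0),
  (3087, 18537),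
  (0, 0),
  (0, 0),
  (0, 0),
  (0, 0),
  (0, 0),
  (8109, 11868),
  (0, 0),
  (0, 0),
  (0, 0),
  (0, 0),
  (8352, 18396),
  (0, 0),
  (0, 0),
  (0, 0),
  (0, 0),
  (0, 0),
  (3735, 5220),
  (14913, 12486),
  (0, 0),
  (0, 0),
  (19044, 15213),
  (12726, 9351),
  (1548, 10167),
  (0, 0),
  (3735, 927),
  (0, 0),
  (0, 0),
  (5274, 4143),
  (0, 0),
  (0, 0),
  (0, 0),
  (0, 0),
  (0, 0),
  (1548, 6138),
  (0, 0),
  (10296, 5223),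
  (0, 0),
  (0, 0),
  (0, 0),
  (0, 0),
  (0, 0),
  (12483, 10641),
  (0, 0),
  (0, 0),
  (0, 0),
  (10296, 11811),
  (0, 0),
  (17100, 1386),
  (16857, 927),
  (5922, 16182),
  (0, 0),
  (0, 0),
  (8352, 13026),
  (0, 0),
  (0, 0),
  (10296, 17430),
  (8109, 13242),
  (12483, 17964),
  (1548, 16752),
  (3735, 5223),
  (0, 0),
  (0, 0),
  (1548, 16158),
  (0, 0),
  (0, 0),
  (0, 0),
  (0, 0),
  (0, 0),
  (0, 0),
  (0, 0),
  (14670, 1875),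
  (0, 0),
  (10539, 13353),
  (0, 0),
  (0, 0),
  (0, 0),
  (0, 0),
  (0, 0),
  (1548, 16293),
  (0, 0),
  (0, 0),
  (0, 0),
  (8109, 15669),
  (16857, 5223),
  (3735, 1197),
  (2034, 3573),
  (0, 0),
  (8109, 18531),
  (0, 0),
  (0, 0),
  (3087, 16425),
  (0, 0),
  (0, 0),
  (0, 0),
  (0, 0),
  (19044, 8373),
  (0, 0),
  (0, 0),
  (0, 0),
  (0, 0),
  (8109, 3903),
  (0, 0),
  (0, 0),
  (0, 0),
  (0, 0),
  (0, 0),
  (10539, 2955),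
  (1548, 9816),
  (0, 0),
  (0, 0),
  (5922, 10326),
  (14670, 10674),
  (7461, 15216),
  (0, 0),
  (0, 0),
  (14670, 5739),
  (0, 0),
  (0, 0),
  (17100, 17430),
  (0, 0),
  (0, 0),
  (0, 0),
  (0, 0),
  (16857, 1386),
  (0, 0),
  (1548, 6273),
  (0, 0),
  (0, 0),
  (0, 0),
  (0, 0),
  (0, 0),
  (17100, 1197),
  (0, 0),
  (0, 0),
  (0, 0),
  (10242, 8061),
  (0, 0),
  (0, 0),
  (0, 0),
  (0, 0),
  (0, 0),
  (14670, 11241),
  (0, 0),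
  (0, 0),
  (0, 0),
  (14670, 7275),
  (14670, 8817),
  (10296, 1386),
  (16857, 2958),
  (5922, 12666),
  (0, 0),
  (0, 0),
  (8109, 1335),
  (0, 0),
  (0, 0),
  (0, 0),
  (0, 0),
  (0, 0),
  (0, 0),
  (0, 0),
  (14913, 7032),
  (0, 0),
  (10296, 927),
  (0, 0),
  (0, 0),
  (0, 0),
  (0, 0),
  (0, 0),
  (0, 0),
  (19044, 6381),
  (19044, 7410),
  (0, 0),
  (0, 0),
  (14670, 12702),
  (12483, 5457),
  (16857, 9978),
  (0, 0),
  (1548, 9546),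
  (0, 0),
  (0, 0),
  (3735, 1386),
  (0, 0),
  (0, 0),
  (0, 0),
  (0, 0),
  (10296, 12969),
  (0, 0),
  (0, 0),
  (0, 0),
  (0, 0),
  (14670, 16104),
  (0, 0),
  (0, 0),
  (0, 0),
  (3735, 933),
  (0, 0),
  (0, 0),
  (0, 0),
  (16857, 1197),
  (0, 0),
  (14670, 17025),
  (8109, 12810),
  (1548, 6165),
  (0, 0),
  (0, 0),
  (8109, 16428),
  (0, 0),
  (0, 0),
  (2034, 19617),
  (0, 0),
  (0, 0),
  (0, 0),
  (0, 0),
  (3735, 5226),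
  (0, 0),
  (3735, 13353),
  (0, 0),
  (0, 0)]

end Cfsg.Agent.Lib.SL3Cover
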